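import Groth.Agent.GITLib.TorsorSch
import Groth.Prelude.Def_ChGrp

/-!
# Balanced products on points
-/

set_option autoImplicit false

universe u

open CategoryTheory CategoryTheory.Limits MonoidalCategory CartesianMonoidalCategory MonObj AlgebraicGeometry

namespace Groth.Agent.ChGrpLib

open Groth.Agent.GITLib

variable {S : Scheme.{u}}

/-- The sieve of maps into `T` over which the point lifts. -/
def liftSieve {W Y T : Over S} (j : W ⟶ Y) (y : T ⟶ Y) : Sieve T where
  arrows := fun T' f => ∃ p : T' ⟶ W, p ≫ j = f ≫ y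
  downward_closed := fun {_ _ f} ⟨p, hp⟩ k => ⟨k ≫ p, by rw [Category.assoc, hp, Category.assoc]⟩

theorem liftSieve_mem {W Y T : Over S} (j : W ⟶ Y) {K : Precoverage Scheme.{u}} (hK : K ≤ Scheme.fpqcPrecoverage)
    (hj : NonAbH1.IsLocallyTrivialFor K (Over.mk j.left : Over Y.left)) (y : T ⟶ Y) : liftSieve j y ∈ Jq S T := by
  obtain ⟨R, hR, hs⟩ := hj
  change Sieve.overEquiv T (liftSieve j y) ∈ Scheme.fpqcTopology T.left
  refine GrothendieckTopology.superset_covering _ ?_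
    (Scheme.fpqcTopology.pullback_stable y.left (Precoverage.generate_mem_toGrothendieck (hK _ hR)))
  intro V k hk
  obtain ⟨V', l, r, hr, hlr⟩ := hk
  obtain ⟨s, hs'⟩ := hs r hr
  change s ≫ j.left = r at hs'
  rw [Sieve.overEquiv_iff]
  refine ⟨Over.homMk (l ≫ s) ?_, Over.OverMorphism.ext ?_⟩
  · show (l ≫ s) ≫ W.hom = k ≫ T.hom
    rw [← Over.w j, Category.assoc, ← Category.assoc s, hs', ← Category.assoc, hlr, Category.assoc, Over.w y]
  · show (l ≫ s) ≫ j.left = k ≫ y.left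
    rw [Category.assoc, hs', hlr]

/-- Factorisations through a monomorphism glue. -/
theorem exists_factor_of_local {A B T : Over S} (m : A ⟶ B) [Mono m] (y : T ⟶ B) {Sv : Sieve T}
    (hSv : Sv ∈ Jq S T) (h : ∀ ⦃T' : Over S⦄ (f : T' ⟶ T), Sv.arrows f → ∃ z : T' ⟶ A, z ≫ m = f ≫ y) :
    ∃ z : T ⟶ A, z ≫ m = y := by
  let fam : Presieve.FamilyOfElements (yoneda.obj A) Sv.arrows := fun T' f hf => (h f hf).choose
  have hfam : fam.Compatible := by
    intro T₁ T₂ T' k₁ k₂ f₁ f₂ h₁ h₂ w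
    show k₁ ≫ (h f₁ h₁).choose = k₂ ≫ (h f₂ h₂).choose
    rw [← cancel_mono m, Category.assoc, Category.assoc, (h f₁ h₁).choose_spec, (h f₂ h₂).choose_spec,
      ← Category.assoc, ← Category.assoc, w]
  refine ⟨(isSheaf_yoneda_q A Sv hSv).amalgamate fam hfam, hom_ext_q hSv fun T' f hf => ?_⟩
  rw [← Category.assoc, show f ≫ _ = fam f hf from (isSheaf_yoneda_q A Sv hSv).valid_glue hfam f hf]
  exact (h f hf).choose_spec

section

variable {G H Z Y : Over S} [GrpObj G] [GrpObj H] {i : H ⟶ G} [IsMonHom i] {aZ : AlgGrp.Action H Z}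
  {aY : AlgGrp.Action G Y} {j : G ⊗ Z ⟶ Y} {K : Precoverage Scheme.{u}}

/-- Two points have the same image in the balanced product iff they differ by a point of the group. -/
theorem balProd_eq_iff (hY : ChGrp.IsBalProd K i aZ aY j) {T : Over S} (q q' : T ⟶ G) (z z' : T ⟶ Z) :
    lift q z ≫ j = lift q' z' ≫ j ↔ ∃ h : T ⟶ H, q' = q * (h ≫ i)⁻¹ ∧ z' = lift h z ≫ aZ.act := by
  constructor
  · intro e
    let m := hY.2.1.lift (lift q' z') (lift q z) e.symm
    refine ⟨m ≫ fst _ _, ?_⟩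
    have hm : m = lift (m ≫ fst _ _) (lift q z) := by
      conv_lhs => rw [← lift_comp_fst_snd m]
      rw [hY.2.1.lift_snd]
    have h1 := hY.2.1.lift_fst (lift q' z') (lift q z) e.symm
    change m ≫ _ = _ at h1
    rw [hm, ChGrp.lift_twist_act] at h1
    exact ⟨by simpa using (congrArg (· ≫ fst G Z) h1).symm, by simpa using (congrArg (· ≫ snd G Z) h1).symm⟩
  · rintro ⟨h, rfl, rfl⟩
    rw [← ChGrp.lift_twist_act, Category.assoc, hY.2.1.w, lift_snd_assoc]

/-- The map to the balanced product is equivariant for translations. -/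
theorem balProd_equivariant (hY : ChGrp.IsBalProd K i aZ aY j) {T : Over S} (g q : T ⟶ G) (z : T ⟶ Z) :
    lift (g * q) z ≫ j = lift g (lift q z ≫ j) ≫ aY.act := by
  have e := congrArg (lift g (lift q z) ≫ ·) hY.1
  simp only [lift_whiskerLeft_assoc] at e
  rw [← e, AlgGrp.Action.lift_prod_act_assoc]
  refine congrArg (· ≫ j) (CartesianMonoidalCategory.hom_ext _ _ ?_ ?_)
  · rw [lift_fst, lift_fst, Hom.mul_def]
    rfl
  · simp [AlgGrp.Action.trivial_act]

/-- Morphisms out of the balanced product are determined on `G ⊗ Z`. -/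
theorem balProd_hom_ext (hK : K ≤ Scheme.fpqcPrecoverage) (hY : ChGrp.IsBalProd K i aZ aY j) {W : Over S}
    {u v : Y ⟶ W} (h : j ≫ u = j ≫ v) : u = v := by
  refine hom_ext_q (liftSieve_mem j hK hY.2.2 (𝟙 Y)) fun T f hf => ?_
  obtain ⟨p, hp⟩ := hf
  rw [Category.comp_id] at hp
  rw [← hp, Category.assoc, Category.assoc, h]

/-- Morphisms invariant under the twisted action descend to the balanced product. -/
theorem balProd_desc (hK : K ≤ Scheme.fpqcPrecoverage) (hY : ChGrp.IsBalProd K i aZ aY j) {W : Over S}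
    (φ : G ⊗ Z ⟶ W) (hφ : (ChGrp.twist i aZ).act ≫ φ = snd H (G ⊗ Z) ≫ φ) : ∃ u : Y ⟶ W, j ≫ u = φ := by
  have key : ∀ {T : Over S} (p p' : T ⟶ G ⊗ Z), p ≫ j = p' ≫ j → p ≫ φ = p' ≫ φ := by
    intro T p p' e
    rw [← hY.2.1.lift_fst p p' e, Category.assoc, hφ, hY.2.1.lift_snd_assoc]
  have hsv := liftSieve_mem j hK hY.2.2 (𝟙 Y)
  let fam : Presieve.FamilyOfElements (yoneda.obj W) (liftSieve j (𝟙 Y)).arrows := fun T f hf => hf.choose ≫ φ
  have hfam : fam.Compatible := by
    intro T₁ T₂ T k₁ k₂ f₁ f₂ h₁ h₂ w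
    show k₁ ≫ h₁.choose ≫ φ = k₂ ≫ h₂.choose ≫ φ
    rw [← Category.assoc, ← Category.assoc]
    refine key _ _ ?_
    rw [Category.assoc, Category.assoc, h₁.choose_spec, h₂.choose_spec, Category.comp_id, Category.comp_id, w]
  let u := (isSheaf_yoneda_q W _ hsv).amalgamate fam hfam
  refine ⟨u, ?_⟩
  have hj : (liftSieve j (𝟙 Y)).arrows j := ⟨𝟙 _, by simp⟩
  rw [show j ≫ u = fam j hj from (isSheaf_yoneda_q W _ hsv).valid_glue hfam j hj]
  exact (key _ _ (by rw [hj.choose_spec, Category.comp_id, Category.id_comp])).trans (Category.id_comp φ)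

end

end Groth.Agent.ChGrpLib
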